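import Cfsg.Agent.H0.OSuz.D
set_option maxRecDepth 100000
set_option Elab.async false
namespace H0.OSuz
open H0 BN 
theorem defs_ok : DefsOK R.p defs 16 := defsOK_of_chk c67
universe u
variable {G : Type u} [Group G] [Finite G] (m0 : Model G) (h0 : m0.R = H0.MSuz.R)
noncomputable def m : Model G := m0.ext (lg := nat_lit 11) (N := nat_lit 2048) (l := H0.MSuz.nl) h0 nl nl_ok 16 rfl defs defs_ok (by decide +kernel)
theorem mR : (m m0 h0).R = R := rfl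
variable (hb : m0.pst [426, 2, 1, 0] = ⊥) (hc : Nat.card G = 448345497600)
include h0 hb hc
theorem base : (m m0 h0).pst [426, 2, 1, 0] = ⊥ := hb
omit hb hc in
theorem xch_ok : (m m0 h0).ChainOK xch [] := ((m m0 h0).chain_cons [0, 0, 0, 1, 0, 1, 0, 1, 0, 1, 0, 1, 0, 1, 0, 1, 0, 1, 0, 1, 0, 1, 0, 1, 0, 1, 0, 1] (Model.via _ (mR m0 h0) (fun R => Model.fixP R [] [[19], [20]]) c10) (Model.via _ (mR m0 h0) (fun R => Model.growP R [[19], [20]] [0, 0, 0, 1, 0, 1, 0, 1, 0, 1, 0, 1, 0, 1, 0, 1, 0, 1, 0, 1, 0, 1, 0, 1, 0, 1, 0, 1] 1621 1782) c11) ((m m0 h0).chain_cons [0, 1, 0, 1, 0, 1, 0, 1, 0, 1, 0, 1, 0, 1, 0] (Model.via _ (mR m0 h0) (fun R => Model.fixP R [1621] [[21], [22]]) c8) (Model.via _ (mR m0 h0) (fun R => Model.growP R [[21], [22]] [0, 1, 0, 1, 0, 1, 0, 1, 0, 1, 0, 1, 0, 1, 0] 1427 416) c9) ((m m0 h0).chain_cons [0, 1, 0, 1, 0, 1, 0, 1, 0, 1, 0, 1, 0, 0] (Model.via _ (mR m0 h0) (fun R =>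 Model.fixP R [1427, 1621] [[23], [24]]) c6) (Model.via _ (mR m0 h0) (fun R => Model.growP R [[23], [24]] [0, 1, 0, 1, 0, 1, 0, 1, 0, 1, 0, 1, 0, 0] 290 315) c7) ((m m0 h0).chain_cons [0, 1, 0, 1, 0, 1, 0, 1] (Model.via _ (mR m0 h0) (fun R => Model.fixP R [290, 1427, 1621] [[25], [26]]) c4) (Model.via _ (mR m0 h0) (fun R => Model.growP R [[25], [26]] [0, 1, 0, 1, 0, 1, 0, 1] 1724 32) c5) ((m m0 h0).chain_cons [0, 1, 0, 1, 0, 1, 0, 0] (Model.via _ (mR m0 h0) (fun R => Model.fixP R [1724, 290, 1427, 1621] [[27], [28]]) c2) (Model.via _ (mR m0 h0) (fun R => Model.growP R [[27], [28]] [0, 1, 0, 1, 0, 1, 0, 0] 1117 20) c3) ((m m0 h0).chain_cons [0, 0] (Model.via _ (mR m0 h0) (fun R => Model.fixP R [1117, 1724, 290, 1427, 1621] [[29]]) c0) (Model.via _ (mR m0 h0) (fun R => Model.growP R [[29]] [0, 0] 1152 3) c1) ((m m0 h0).chain_nil _)))))))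
theorem xtop : gen (m m0 h0).g (Model.cgens xch) = ⊤ := (m m0 h0).chain_top (xch_ok m0 h0) (hc.trans (by decide +kernel))
theorem xbdd : (m m0 h0).Bdd := (m m0 h0).bdd_of_top (xtop m0 h0 hb hc)
theorem xot : (m m0 h0).OTOK xOT := ((m m0 h0).otok_cons (xch_ok m0 h0) (hc.trans (by decide +kernel)) 2 rfl (Model.via _ (mR m0 h0) (fun R => Model.invB R (Model.cgens (xch.drop 2)) xO0) c24) ((m m0 h0).otok_cons (xch_ok m0 h0) (hc.trans (by decide +kernel)) 2 rfl (Model.via _ (mR m0 h0) (fun R => Model.invB R (Model.cgens (xch.drop 2)) xO1) c23) ((m m0 h0).otok_cons (xch_ok m0 h0) (hc.trans (by decide +kernel)) 3 rfl (Model.via _ (mR m0 h0) (fun R => Model.invB R (Model.cgens (xch.drop 3)) xO2) c22) ((m m0 h0).otok_cons (xch_ok m0 h0) (hc.trans (by decide +kernel)) 1 rfl (Model.via _ (mR m0 h0) (fun R => Model.invB R (Model.cgens (xch.drop 1)) xO3) c21) ((m m0 h0).otok_cons (xch_ok m0 h0) (hc.trans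 (by decide +kernel)) 0 rfl (Model.via _ (mR m0 h0) (fun R => Model.invB R (Model.cgens (xch.drop 0)) xO4) c20) (m m0 h0).otok_nil)))))
theorem xcm : ∀ w ∈ xCg, (m m0 h0).Cm [[16]] (ev (m m0 h0).g w) := (m m0 h0).cm_of_pairs (all_take_done (all_take_step (all_take_zero _ (xCg.flatMap fun w => [[16]].map fun y => (w ++ y, y ++ w))) ((m m0 h0).pairs_of (base m0 h0 hb hc) (Model.via _ (mR m0 h0) (fun R => pairsB R [426, 2, 1, 0] (((xCg.flatMap fun w => [[16]].map fun y => (w ++ y, y ++ w)).drop 0).take 1)) c25))) (by decide +kernel))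
theorem xn2 : (m m0 h0).Sol [[16]] xCg [1258, 1152, 1117, 1724, 290, 1427, 1621] [1258, 1152, 1117, 1724, 290, 1427, 1621] := (m m0 h0).sol_done [1, 2, 3, 4, 5, 6] (((m m0 h0).chain_bot (xch_ok m0 h0) (hc.trans (by decide +kernel))).le.trans bot_le) (by decide +kernel)
theorem xn1 : (m m0 h0).Sol [[16]] xCg [1621] [1621] := (m m0 h0).sol_free (xbdd m0 h0 hb hc) (xcm m0 h0 hb hc) (xot m0 h0 hb hc) ((m m0 h0).excl_zero _ _) (Model.via _ (mR m0 h0) (fun R => freeB R xOT [[16]] xCg [0] [1621] [1621] [] 1427 0 [([], 1427, 3)] [[0]] [0, 0, 0, 0, 0, 0, 0, 0, 0, 0, 0, 0] xc16) c16) ((m m0 h0).solL_leaves (xot m0 h0 hb hc) [0] (Bc := [1258, 1152, 1117, 1724, 290, 1427]) (Model.via _ (mR m0 h0) (fun R => cycB R (subst [[16]] [0]) [1258, 1152, 1117, 1724, 290, 1427]) c13) (Model.via _ (mR m0 h0) (fun R => allL (leafB R xOT (subst [[16]] [0]) [1, 2, 3, 4, 5, 6] [1258, 1152, 1117, 1724, 290, 1427] [1621]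 [1621]) xL15) c15) ((m m0 h0).solL_cons ((m m0 h0).sol_cyc [0] (Bc := [1258, 1152, 1117, 1724, 290, 1427]) (T := [1258, 1152, 1117, 1724, 290, 1427]) rfl (Model.via _ (mR m0 h0) (fun R => cycB R (subst [[16]] [0]) [1258, 1152, 1117, 1724, 290, 1427]) c13) (Model.via _ (mR m0 h0) (fun R => cycB R (subst [[16]] [0]) [1258, 1152, 1117, 1724, 290, 1427]) c14) (xn2 m0 h0 hb hc)) (m m0 h0).solL_nil))
theorem xn0 : (m m0 h0).Sol [[16]] xCg [] [] := (m m0 h0).sol_free (xbdd m0 h0 hb hc) (xcm m0 h0 hb hc) (xot m0 h0 hb hc) ((m m0 h0).excl_mov (xbdd m0 h0 hb hc) [0] (Model.via _ (mR m0 h0) (fun R => exclB R (subst [[16]] [0]) 1621 xD0) c18)) (Model.via _ (mR m0 h0) (fun R => freeB R xOT [[16]] xCg [] [] [] [] 1621 xD0 [([], 1621, 4)] [[0]] [] xc19) c19) ((m m0 h0).solL_cons ((m m0 h0).sol_cyc [] (Bc := [1621]) (T := [1621]) rfl (Model.via _ (mR m0 h0) (fun R => cycB R (subst [[16]] []) [1621]) c12)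 (Model.via _ (mR m0 h0) (fun R => cycB R (subst [[16]] []) [1621]) c17) (xn1 m0 h0 hb hc)) (m m0 h0).solL_nil)
theorem xsol : (m m0 h0).Sol [[16]] xCg [] [] := xn0 m0 h0 hb hc
omit hb hc in
theorem ych_ok : (m m0 h0).ChainOK ych [] := ((m m0 h0).chain_cons [0, 1, 0, 1, 0, 1, 0, 1, 0, 1, 0, 1, 0, 1, 0, 1, 0, 1, 0, 1, 0, 1, 0, 1, 0, 0] (Model.via _ (mR m0 h0) (fun R => Model.fixP R [] [[19], [20]]) c36) (Model.via _ (mR m0 h0) (fun R => Model.growP R [[19], [20]] [0, 1, 0, 1, 0, 1, 0, 1, 0, 1, 0, 1, 0, 1, 0, 1, 0, 1, 0, 1, 0, 1, 0, 1, 0, 0] 783 1782) c37) ((m m0 h0).chain_cons [0, 0, 1, 0, 1, 0, 1, 0, 1, 0, 1, 0, 1, 0, 1, 0, 1] (Model.via _ (mR m0 h0) (fun R => Model.fixP R [783] [[30], [31]]) c34) (Model.via _ (mR m0 h0) (fun R => Model.growP R [[30], [31]] [0, 0, 1, 0, 1, 0, 1, 0, 1, 0, 1, 0, 1, 0, 1, 0, 1] 199 416) c35) ((m m0 h0).chain_cons [1, 0, 1, 0, 0, 1, 0, 1, 0, 1, 0, 1, 0, 1, 0,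 0, 1, 1] (Model.via _ (mR m0 h0) (fun R => Model.fixP R [199, 783] [[32], [33]]) c32) (Model.via _ (mR m0 h0) (fun R => Model.growP R [[32], [33]] [1, 0, 1, 0, 0, 1, 0, 1, 0, 1, 0, 1, 0, 1, 0, 0, 1, 1] 1172 100) c33) ((m m0 h0).chain_cons [0, 0, 1, 0, 1, 0, 1, 0, 1, 0] (Model.via _ (mR m0 h0) (fun R => Model.fixP R [1172, 199, 783] [[34], [35]]) c30) (Model.via _ (mR m0 h0) (fun R => Model.growP R [[34], [35]] [0, 0, 1, 0, 1, 0, 1, 0, 1, 0] 742 36) c31) ((m m0 h0).chain_cons [0, 1, 0, 1, 0, 1] (Model.via _ (mR m0 h0) (fun R => Model.fixP R [742, 1172, 199, 783] [[36], [37]]) c28) (Model.via _ (mR m0 h0) (fun R => Model.growP R [[36], [37]] [0, 1, 0, 1, 0, 1] 1778 21) c29) ((m m0 h0).chain_cons [0, 1, 0, 1] (Model.via _ (mR m0 h0) (fun R => Model.fixP R [1778, 742, 1172, 199, 783] [[38], [39]]) c26) (Model.via _ (mR m0 h0) (fun R => Model.growP R [[38], [39]] [0, 1, 0, 1] 229 8) c27) ((m m0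 h0).chain_nil _)))))))
theorem ytop : gen (m m0 h0).g (Model.cgens ych) = ⊤ := (m m0 h0).chain_top (ych_ok m0 h0) (hc.trans (by decide +kernel))
theorem ybdd : (m m0 h0).Bdd := (m m0 h0).bdd_of_top (ytop m0 h0 hb hc)
theorem yot : (m m0 h0).OTOK yOT := ((m m0 h0).otok_cons (ych_ok m0 h0) (hc.trans (by decide +kernel)) 4 rfl (Model.via _ (mR m0 h0) (fun R => Model.invB R (Model.cgens (ych.drop 4)) yO0) c57) ((m m0 h0).otok_cons (ych_ok m0 h0) (hc.trans (by decide +kernel)) 2 rfl (Model.via _ (mR m0 h0) (fun R => Model.invB R (Model.cgens (ych.drop 2)) yO1) c56) ((m m0 h0).otok_cons (ych_ok m0 h0) (hc.trans (by decide +kernel)) 1 rfl (Model.via _ (mR m0 h0) (fun R => Model.invB R (Model.cgens (ych.drop 1)) yO2) c55) ((m m0 h0).otok_cons (ych_ok m0 h0) (hc.trans (by decide +kernel)) 0 rfl (Model.via _ (mR m0 h0) (fun R => Model.invB R (Model.cgens (ych.drop 0)) yO3) c54) (m m0 h0).otok_nil))))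
theorem ycm : ∀ w ∈ yCg, (m m0 h0).Cm [[17]] (ev (m m0 h0).g w) := (m m0 h0).cm_of_pairs (all_take_done (all_take_step (all_take_zero _ (yCg.flatMap fun w => [[17]].map fun y => (w ++ y, y ++ w))) ((m m0 h0).pairs_of (base m0 h0 hb hc) (Model.via _ (mR m0 h0) (fun R => pairsB R [426, 2, 1, 0] (((yCg.flatMap fun w => [[17]].map fun y => (w ++ y, y ++ w)).drop 0).take 3)) c58))) (by decide +kernel))
theorem yn4 : (m m0 h0).Sol [[17]] yCg [229, 1778, 742, 1172, 199, 783] [229, 1778, 742, 1172, 199, 783] := (m m0 h0).sol_done [0, 1, 2, 3, 4, 5] (((m m0 h0).chain_bot (ych_ok m0 h0) (hc.trans (by decide +kernel))).le.trans bot_le) (by decide +kernel)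
theorem yn3 : (m m0 h0).Sol [[17]] yCg [742, 1172, 199, 783] [742, 1172, 199, 783] := (m m0 h0).sol_free (ybdd m0 h0 hb hc) (ycm m0 h0 hb hc) (yot m0 h0 hb hc) ((m m0 h0).excl_mov (ybdd m0 h0 hb hc) [0, 0, 0] (Model.via _ (mR m0 h0) (fun R => exclB R (subst [[17]] [0, 0, 0]) 1778 yD3) c43)) (Model.via _ (mR m0 h0) (fun R => freeB R yOT [[17]] yCg [0, 1, 2, 3] [742, 1172, 199, 783] [742, 1172, 199, 783] [] 1778 yD3 [([], 1778, 0)] [[0, 0]] [0, 0] yc44) c44) ((m m0 h0).solL_cons ((m m0 h0).sol_cyc [0] (Bc := [229, 1778]) (T := [229, 1778]) rfl (Model.via _ (mR m0 h0) (fun R => cycB R (subst [[17]] [0]) [229, 1778]) c41) (Model.via _ (mR m0 h0) (fun R => cycB R (subst [[17]] [0]) [229, 1778]) c42) (yn4 m0 h0 hb hc)) (m m0 h0).solL_nil)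
theorem yn2 : (m m0 h0).Sol [[17]] yCg [199, 783] [199, 783] := (m m0 h0).sol_free (ybdd m0 h0 hb hc) (ycm m0 h0 hb hc) (yot m0 h0 hb hc) ((m m0 h0).excl_mov (ybdd m0 h0 hb hc) [0, 0] (Model.via _ (mR m0 h0) (fun R => exclB R (subst [[17]] [0, 0]) 1172 yD2) c46)) (Model.via _ (mR m0 h0) (fun R => freeB R yOT [[17]] yCg [0, 1] [199, 783] [199, 783] [] 1172 yD2 [([], 1172, 1)] [[0], [1, 1, 1]] [0, 1] yc47) c47) ((m m0 h0).solL_cons ((m m0 h0).sol_cyc [0] (Bc := [742, 1172]) (T := [742, 1172]) rfl (Model.via _ (mR m0 h0) (fun R => cycB R (subst [[17]] [0]) [742, 1172]) c40) (Model.via _ (mR m0 h0) (fun R => cycB R (subst [[17]] [0]) [742, 1172]) c45) (yn3 m0 h0 hb hc)) (m m0 h0).solL_nil)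
theorem yn1 : (m m0 h0).Sol [[17]] yCg [783] [783] := (m m0 h0).sol_free (ybdd m0 h0 hb hc) (ycm m0 h0 hb hc) (yot m0 h0 hb hc) ((m m0 h0).excl_mov (ybdd m0 h0 hb hc) [0] (Model.via _ (mR m0 h0) (fun R => exclB R (subst [[17]] [0]) 199 yD1) c49)) (Model.via _ (mR m0 h0) (fun R => freeB R yOT [[17]] yCg [0] [783] [783] [] 199 yD1 [([], 199, 2)] [[0], [1, 1, 1]] [] yc50) c50) ((m m0 h0).solL_cons ((m m0 h0).sol_cyc [] (Bc := [199]) (T := [199]) rfl (Model.via _ (mR m0 h0) (fun R => cycB R (subst [[17]] []) [199]) c39) (Model.via _ (mR m0 h0) (fun R => cycB R (subst [[17]] []) [199]) c48) (yn2 m0 h0 hb hc)) (m m0 h0).solL_nil)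
theorem yn0 : (m m0 h0).Sol [[17]] yCg [] [] := (m m0 h0).sol_free (ybdd m0 h0 hb hc) (ycm m0 h0 hb hc) (yot m0 h0 hb hc) ((m m0 h0).excl_mov (ybdd m0 h0 hb hc) [0] (Model.via _ (mR m0 h0) (fun R => exclB R (subst [[17]] [0]) 783 yD0) c52)) (Model.via _ (mR m0 h0) (fun R => freeB R yOT [[17]] yCg [] [] [] [] 783 yD0 [([], 783, 3)] [[0], [1], [2]] [1, 2, 1] yc53) c53) ((m m0 h0).solL_cons ((m m0 h0).sol_cyc [] (Bc := [783]) (T := [783]) rfl (Model.via _ (mR m0 h0) (fun R => cycB R (subst [[17]] []) [783]) c38) (Model.via _ (mR m0 h0) (fun R => cycB R (subst [[17]] []) [783]) c51) (yn1 m0 h0 hb hc)) (m m0 h0).solL_nil)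
theorem ysol : (m m0 h0).Sol [[17]] yCg [] [] := yn0 m0 h0 hb hc
theorem inj : Function.Injective (m m0 h0).φ := (m m0 h0).inj_of_base (base m0 h0 hb hc)
theorem gtop : gen (m m0 h0).g ([16, 17, 18].map fun x => [x]) = ⊤ :=
  top_of_marks ((m m0 h0).defsOK_g (inj m0 h0 hb hc) ((mR m0 h0).symm ▸ defs_ok)) _ (xtop m0 h0 hb hc) (by decide +kernel)
theorem cl : ∀ k ∈ Subgroup.centralizer {ev (m m0 h0).g [17]}, ∃ w ∈ CL, k = ev (m m0 h0).g w := fun k hk =>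
  list_closed (all_take_done (all_take_step (all_take_zero _ CE) ((m m0 h0).pairs_of (base m0 h0 hb hc) (Model.via _ (mR m0 h0) (fun R => pairsB R [426, 2, 1, 0] ((CE.drop 0).take 216)) c59))) (by decide +kernel)) (by decide +kernel) k ((m m0 h0).cent_le (ysol m0 h0 hb hc) hk)
theorem ocl : (m m0 h0).OutCl 16 17 18 [(1, []), (2, [17, 17, 17])] :=
  (m m0 h0).outCl (r := 13) (t := 4) (s := 6) (e := 1) (n := 1) (K := [1, 2]) (RL := RL) (EL := EL) hc (by decide +kernel) (by decide +kernel)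
    (all_take_done (all_take_step (all_take_zero _ (Model.outE 16 17 18 [17] 13 4 1 1 RL)) ((m m0 h0).pairs_of (base m0 h0 hb hc) (Model.via _ (mR m0 h0) (fun R => pairsB R [426, 2, 1, 0] (((Model.outE 16 17 18 [17] 13 4 1 1 RL).drop 0).take 7)) c60))) (by decide +kernel)) ((m m0 h0).ne_of_neB (Model.via _ (mR m0 h0) (fun R => neB R [16] [] 0 1655 0) c61)) (xsol m0 h0 hb hc) (cl m0 h0 hb hc)
    (by decide +kernel) (by decide +kernel) (all_take_done (all_take_step (all_take_zero _ EL) (allL_spec (Model.via _ (mR m0 h0) (fun R => allL (elimB R 16 17 18 RL [(1, []), (2, [17, 17, 17])]) ((EL.drop 0).take 144)) c62))) (by decide +kernel))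
theorem outer : ∃ α, α ∉ Cfsg.Inn G :=
  (m m0 h0).exists_outer (inj m0 h0 hb hc) (mR m0 h0) s42 nl3_ok (k := 2) (e := 1) (c := [17, 17, 17]) (gtop m0 h0 hb hc) (by decide +kernel)
    (List.forall_mem_cons.2 ⟨(eq_of_eqW R2 c64), List.forall_mem_cons.2 ⟨(eq_of_eqW R2 c65), List.forall_mem_cons.2 ⟨(eq_of_eqW R2 c66), List.forall_mem_nil _⟩⟩⟩) rfl (cl m0 h0 hb hc) (NL := NL) (by decide +kernel) (all_take_done (all_take_step (all_take_zero _ NL) (allL_spec (Model.via _ (mR m0 h0) (fun R => allL (innB R 16 18 2 [17, 17, 17]) ((NL.drop 0).take 72)) c63))) (by decide +kernel))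
theorem out : Nat.card (Cfsg.Out G) = 2 := (m m0 h0).out_two (gtop m0 h0 hb hc) (ocl m0 h0 hb hc) (outer m0 h0 hb hc)
end H0.OSuz
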